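import Cfsg.Agent.Lib.Balance.ConnectedFunctor
import Cfsg.Agent.Lib.Signalizer.SFT.Completion

/-!
Completeness of solvable signalizer functors in the form used in `Lib.Balance`.
-/

set_option autoImplicit false

namespace CfsgLib.Balance

open Cfsg

universe u

theorem solvableFunctorsComplete {G : Type u} [Group G] [Finite G] (p : ℕ) [hp : Fact p.Prime] :
    SolvableFunctorsComplete p G := by
  intro A θ hA hA3 hθ
  obtain ⟨hmem, hinf⟩ := CfsgLib.Signalizer.SFT.closure_mem_and_inf_eq hA hA3 hθ
  refine ⟨hθ.1, signalizerClosure A θ, fun b hb x hx => ?_, hmem.2.1, hinf⟩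
  exact CfsgLib.CoprimeAction.conj_mem (family_normalized hmem hb) hx

end CfsgLib.Balance
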