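import Cfsg.Agent.Lib.Balance.SylowCentralizer
import Cfsg.Agent.Lib.Involutions.Isolated
import Cfsg.Agent.Lib.Involutions.ThompsonTransfer
import Cfsg.Agent.Lib.PGroups.MaximalClass
import Cfsg.Agent.Lib.Signalizer.RankGraph
import Cfsg.Agent.Lib.TwoGroups.CentralizerPrep

/-!
Applications of the Z* theorem: isolated involutions in groups with small Sylow intersections, and
simple groups with an involution centralizer containing at most three involutions.
-/

set_option autoImplicit false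
set_option linter.style.haveILetI false

namespace CfsgLib.Balance

open Cfsg CfsgLib.ConjFunctor

universe u

variable {G : Type u} [Group G] [Finite G]

/-- The intersection condition forces every Sylow-central element fused into `S` to be central. -/
theorem commute_of_centralInter
    (hCI : ∀ S T : Sylow 2 G, S ≠ T → ∃ U : Sylow 2 G,
      (S : Subgroup G) ⊓ (T : Subgroup G) ≤
        (Subgroup.center ↥(U : Subgroup G)).map (U : Subgroup G).subtype)
    (S T : Sylow 2 G) {v : G} (hvS : v ∈ (S : Subgroup G))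
    (hvT : ∀ t ∈ (T : Subgroup G), t * v = v * t) : ∀ s ∈ (S : Subgroup G), s * v = v * s := by
  by_contra hcon
  push Not at hcon
  obtain ⟨s₀, hs₀, hs₀v⟩ := hcon
  set Cv := Subgroup.centralizer ({v} : Set G)
  have hTC : (T : Subgroup G) ≤ Cv := fun t ht => CfsgLib.Involutions.mem_centralizer_singleton.2 (hvT t ht)
  set R := (S : Subgroup G) ⊓ Cv with hRdef
  have hRS : R < (S : Subgroup G) :=
    lt_of_le_of_ne inf_le_left fun h => hs₀v (CfsgLib.Involutions.mem_centralizer_singleton.1 (h.ge hs₀).2)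
  have hTi : ¬ 2 ∣ (T : Subgroup G).relIndex Cv := fun h =>
    T.not_dvd_index (h.trans (Subgroup.relIndex_dvd_index_of_le hTC))
  -- a Sylow subgroup of `G` inside `C(v)` containing `R`
  obtain ⟨R', hRR', hR'C, hR'p, hR'i⟩ := exists_sylow_ge (S.2.to_inf_left (K := Cv)) inf_le_right
  obtain ⟨c, hc, hcR⟩ := exists_cj_eq T.2 hTC hTi hR'p hR'C hR'i
  have hT' : ((c • T : Sylow 2 G) : Subgroup G) = R' := by rw [← hcR]; rfl
  have hne : S ≠ c • T := fun h => hs₀v (CfsgLib.Involutions.mem_centralizer_singleton.1 (hR'C (hT' ▸ h ▸ hs₀)))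
  obtain ⟨U, hU⟩ := hCI S (c • T) hne
  have hRU : R ≤ (Subgroup.center ↥(U : Subgroup G)).map (U : Subgroup G).subtype :=
    (le_inf inf_le_left (hRR'.trans hT'.ge)).trans hU
  set C := Subgroup.centralizer (R : Set G)
  set N := Subgroup.normalizer (R : Set G)
  have hUC : (U : Subgroup G) ≤ C := fun u hu => Subgroup.mem_centralizer_iff.2 fun r hr => by
    obtain ⟨r', hr', rfl⟩ := hRU hr
    exact (congrArg Subtype.val (Subgroup.mem_center_iff.1 hr' ⟨u, hu⟩)).symm
  obtain ⟨s, hs, hsR⟩ := SetLike.exists_of_lt (lt_inf_normalizer S.2 hRS)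
  have hsC : s ∉ C := fun h => hsR ⟨hs.1, CfsgLib.Involutions.mem_centralizer_singleton.2
    (Subgroup.mem_centralizer_iff.1 h v ⟨hvS, CfsgLib.Involutions.mem_centralizer_singleton.2 rfl⟩).symm⟩
  have hCN : C ≤ N := Subgroup.centralizer_le_normalizer _
  haveI : (C.subgroupOf N).Normal := CfsgLib.LBalance.centralizer_subgroupOf_normalizer_normal R
  -- `N / C` has even order
  have h2 : 2 ∣ C.relIndex N := by
    obtain ⟨k, hk⟩ := S.2 ⟨s, hs.1⟩
    have hq : (QuotientGroup.mk' (C.subgroupOf N) ⟨s, hs.2⟩) ≠ 1 := fun h =>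
      hsC ((QuotientGroup.eq_one_iff (⟨s, hs.2⟩ : ↥N)).1 h)
    have hd : orderOf (QuotientGroup.mk' (C.subgroupOf N) ⟨s, hs.2⟩) ∣ 2 ^ k := by
      refine orderOf_dvd_of_pow_eq_one ?_
      have hk' : s ^ 2 ^ k = 1 := congrArg (fun w : ↥(S : Subgroup G) => (w : G)) hk
      rw [← map_pow, show (⟨s, hs.2⟩ : ↥N) ^ 2 ^ k = 1 from Subtype.ext hk', map_one]
    obtain ⟨j, -, hj⟩ := (Nat.dvd_prime_pow Nat.prime_two).1 hd
    rcases Nat.eq_zero_or_pos j with rfl | hj0
    · rw [pow_zero] at hj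
      exact absurd (orderOf_eq_one_iff.1 hj) hq
    rw [Subgroup.relIndex, Subgroup.index_eq_card]
    exact (hj ▸ dvd_pow_self 2 hj0.ne').trans (orderOf_dvd_natCard _)
  have h3 : 2 ∣ (U : Subgroup G).relIndex N := by
    rw [← Subgroup.relIndex_mul_relIndex _ _ _ hUC hCN]
    exact h2.mul_left _
  exact U.not_dvd_index (h3.trans (Subgroup.relIndex_dvd_index_of_le (hUC.trans hCN)))

/-- An involution of a characteristic cyclic subgroup of such a Sylow 2-subgroup is isolated. -/
theorem isolated_of_centralInter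
    (hCI : ∀ S T : Sylow 2 G, S ≠ T → ∃ U : Sylow 2 G,
      (S : Subgroup G) ⊓ (T : Subgroup G) ≤
        (Subgroup.center ↥(U : Subgroup G)).map (U : Subgroup G).subtype)
    (S : Sylow 2 G) (C : Subgroup ↥(S : Subgroup G)) (hCc : IsCyclic ↥C) (hCh : C.Characteristic)
    (c : ↥(S : Subgroup G)) (hc : c ∈ C) (hc2 : orderOf c = 2) :
    ∀ g : G, g * c * g⁻¹ ∈ S → g * c * g⁻¹ = (c : G) := by
  have huniq : ∀ y ∈ C, orderOf y = 2 → y = c := fun y hy hy2 => congrArg Subtype.val
    (CfsgLib.TwoGroups.involution_unique (a := (⟨y, hy⟩ : ↥C)) (b := ⟨c, hc⟩)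
      (by rw [← Subgroup.orderOf_coe]; exact hy2) (by rw [← Subgroup.orderOf_coe]; exact hc2))
  have hfix : ∀ φ : MulAut ↥(S : Subgroup G), φ c = c := fun φ => huniq _
    (Subgroup.characteristic_iff_le_comap.1 hCh φ hc) (by rw [MulEquiv.orderOf_eq]; exact hc2)
  have hcen : ∀ s ∈ (S : Subgroup G), s * (c : G) = c * s := fun s hs => by
    have := congrArg Subtype.val (hfix (MulAut.conj ⟨s, hs⟩))
    exact mul_inv_eq_iff_eq_mul.1 this
  intro g hg
  set v := g * (c : G) * g⁻¹
  have hT : ∀ t ∈ ((g • S : Sylow 2 G) : Subgroup G), t * v = v * t := by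
    rintro _ ⟨s, hs, rfl⟩
    show g * s * g⁻¹ * (g * c * g⁻¹) = g * c * g⁻¹ * (g * s * g⁻¹)
    rw [show g * s * g⁻¹ * (g * c * g⁻¹) = g * (s * c) * g⁻¹ by group, hcen s hs]
    group
  have hSv := commute_of_centralInter hCI S (g • S) hg hT
  set Cv := Subgroup.centralizer ({v} : Set G)
  have h1 : (S : Subgroup G) ≤ Cv := fun s hs => CfsgLib.Involutions.mem_centralizer_singleton.2 (hSv s hs)
  have h2 : ((g • S : Sylow 2 G) : Subgroup G) ≤ Cv := fun t ht =>
    CfsgLib.Involutions.mem_centralizer_singleton.2 (hT t ht)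
  obtain ⟨k, hk, hkS⟩ := exists_cj_eq (g • S).2 h2
    (fun h => (g • S).not_dvd_index (h.trans (Subgroup.relIndex_dvd_index_of_le h2)))
    S.2 h1 (fun h => S.not_dvd_index (h.trans (Subgroup.relIndex_dvd_index_of_le h1)))
  have hkg : k * g ∈ Subgroup.normalizer ((S : Subgroup G) : Set G) :=
    cj_eq_self_iff.1 (by rw [cj_mul]; exact hkS)
  have h3 := congrArg Subtype.val
    (hfix ((S : Subgroup G).normalizerMonoidHom ⟨k * g, hkg⟩))
  simp only [Subgroup.normalizerMonoidHom_apply_apply_coe] at h3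
  have h4 : k * g * (c : G) * (k * g)⁻¹ = v := by
    rw [show k * g * (c : G) * (k * g)⁻¹ = k * v * k⁻¹ by simp only [v]; group,
      CfsgLib.Involutions.mem_centralizer_singleton.1 hk, mul_inv_cancel_right]
  exact h4.symm.trans h3

/-- A nonabelian simple group has no isolated involution, given Z*. -/
theorem exists_conj_ne_of_simple (hZ : ZStarTheorem.{u}) [IsSimpleGroup G]
    (hna : ¬ IsMulCommutative G) (P : Sylow 2 G) {z : G} (hz : orderOf z = 2) (hzP : z ∈ P) :
    ∃ g : G, g * z * g⁻¹ ∈ P ∧ g * z * g⁻¹ ≠ z := by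
  by_contra hc
  push Not at hc
  obtain ⟨N, hN, hodd, hcomm⟩ := hZ G P z hz hzP hc
  rcases hN.eq_bot_or_eq_top with h | h
  · have hzc : z ∈ Subgroup.center G := Subgroup.mem_center_iff.2 fun g => by
      have h1 := hcomm g
      rw [h, Subgroup.mem_bot, mul_inv_eq_one] at h1
      exact (mul_inv_eq_iff_eq_mul.1 h1).symm
    rcases (inferInstance : (Subgroup.center G).Normal).eq_bot_or_eq_top with h' | h'
    · rw [h', Subgroup.mem_bot] at hzc
      rw [hzc, orderOf_one] at hz
      omega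
    · refine hna ⟨⟨fun a b => ?_⟩⟩
      exact (Subgroup.mem_center_iff.1 (h'.ge (Subgroup.mem_top b)) a)
  · rw [h, Subgroup.card_top] at hodd
    exact Nat.not_even_iff_odd.2 hodd (even_iff_two_dvd.2 (hz ▸ orderOf_dvd_natCard z))

/-- Thompson transfer in a nonabelian simple group: an involution is conjugate into every subgroup
of index two of a Sylow 2-subgroup. -/
theorem exists_conj_mem_maximal [IsSimpleGroup G] (hna : ¬ IsMulCommutative G) (P : Sylow 2 G)
    {x : G} (hx : orderOf x = 2) (M : Subgroup ↥(P : Subgroup G)) (hM : M.index = 2) :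
    ∃ g : G, ∃ m : ↥(P : Subgroup G), m ∈ M ∧ g * x * g⁻¹ = (m : G) := by
  by_contra hc
  push Not at hc
  have hidx : (M.map (P : Subgroup G).subtype).index % 4 = 2 := by
    rw [Subgroup.index_map_of_injective _ (Subgroup.subtype_injective _), hM,
      Subgroup.range_subtype]
    have := P.not_dvd_index
    omega
  obtain ⟨K, hK⟩ := CfsgLib.Involutions.exists_index_two_of_involution_not_conj hx hidx
    (fun g hg => by
      obtain ⟨m, hm, hmx⟩ := hg
      exact hc g m hm hmx.symm)
  haveI := Subgroup.normal_of_index_eq_two hK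
  rcases (inferInstance : K.Normal).eq_bot_or_eq_top with h | h
  · rw [h, Subgroup.index_bot] at hK
    haveI := isCyclic_of_prime_card (p := 2) hK
    let _ := IsCyclic.commGroup (α := G)
    exact hna ⟨⟨fun a b => mul_comm a b⟩⟩
  · rw [h, Subgroup.index_top] at hK
    omega

/-- In a group with `x` not conjugate to Sylow-central involutions, no cyclic subgroup of index two
exists in a Sylow 2-subgroup where `x` is not central. -/
theorem false_of_cyclic_index_two [IsSimpleGroup G] (hna : ¬ IsMulCommutative G) (P : Sylow 2 G)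
    {x : G} (hx : orderOf x = 2)
    (hnc : ∀ m : G, m ∈ (P : Subgroup G) → (∀ q ∈ (P : Subgroup G), q * m = m * q) →
      ∀ g : G, g * x * g⁻¹ ≠ m)
    (a : ↥(P : Subgroup G)) (ha : (Subgroup.zpowers a).index = 2) : False := by
  obtain ⟨g, m, hm, hgm⟩ := exists_conj_mem_maximal hna P hx _ ha
  haveI := Subgroup.normal_of_index_eq_two ha
  have hm2 : orderOf m = 2 := by
    rw [← Subgroup.orderOf_coe, ← hgm, CfsgLib.Involutions.orderOf_conj]
    exact hx
  refine hnc m m.2 (fun q hq => ?_) g hgm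
  set q' : ↥(P : Subgroup G) := ⟨q, hq⟩
  have hmem : q' * m * q'⁻¹ ∈ Subgroup.zpowers a :=
    (inferInstance : (Subgroup.zpowers a).Normal).conj_mem m hm q'
  have heq : q' * m * q'⁻¹ = m := congrArg Subtype.val
    (CfsgLib.TwoGroups.involution_unique (H := ↥(Subgroup.zpowers a)) (a := ⟨_, hmem⟩)
      (b := ⟨m, hm⟩) (by rw [← Subgroup.orderOf_coe, CfsgLib.Involutions.orderOf_conj]; exact hm2)
      (by rw [← Subgroup.orderOf_coe]; exact hm2))
  exact congrArg Subtype.val (mul_inv_eq_iff_eq_mul.1 heq)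

/-- A 2-group either has a cyclic subgroup of index at most two or a normal four subgroup. -/
theorem exists_cyclic_or_normal_four {P : Type*} [Group P] [Finite P] (hP : IsPGroup 2 P) :
    IsCyclic P ∨ (∃ a : P, (Subgroup.zpowers a).index = 2) ∨
      ∃ U : Subgroup P, U.Normal ∧ IsElementaryAbelian 2 U ∧ Nat.card U = 4 := by
  haveI : Fact (Nat.Prime 2) := ⟨Nat.prime_two⟩
  by_cases hna : CfsgLib.TwoGroups.NormalAbelianCyclic P
  · have key : ∀ (b : P) (n : ℕ), 0 < n → orderOf b = n → Nat.card P = 2 * n →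
        (Subgroup.zpowers b).index = 2 := by
      intro b n hn hb hc
      have h := Subgroup.card_mul_index (Subgroup.zpowers b)
      rw [Nat.card_zpowers, hb, hc, mul_comm 2] at h
      exact Nat.eq_of_mul_eq_mul_left hn h
    rcases CfsgLib.TwoGroups.isCyclic_or_of_normalAbelianCyclic hP hna with h | ⟨-, h⟩
    · exact Or.inl h
    refine Or.inr (Or.inl ?_)
    rcases h with ⟨m, -, ⟨e⟩⟩ | ⟨m, -, ⟨e⟩⟩ | ⟨n, -, hc, a, y, ha, -, -⟩
    · exact ⟨_, key (e.symm (DihedralGroup.r 1)) (2 ^ m) (by positivity)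
        (by rw [MulEquiv.orderOf_eq, DihedralGroup.orderOf_r_one])
        (by rw [Nat.card_congr e.toEquiv, DihedralGroup.nat_card])⟩
    · haveI : NeZero (2 ^ m) := ⟨pow_ne_zero _ two_ne_zero⟩
      exact ⟨_, key (e.symm (QuaternionGroup.a 1)) (2 * 2 ^ m) (by positivity)
        (by rw [MulEquiv.orderOf_eq, QuaternionGroup.orderOf_a_one])
        (by rw [Nat.card_congr e.toEquiv, Nat.card_eq_fintype_card, QuaternionGroup.card]; omega)⟩
    · exact ⟨_, key a (2 ^ n) (by positivity) ha (by rw [hc, pow_succ'])⟩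
  · refine Or.inr (Or.inr ?_)
    unfold CfsgLib.TwoGroups.NormalAbelianCyclic at hna
    push Not at hna
    obtain ⟨B, hBn, hBc, hBnc⟩ := hna
    haveI := hBc
    have hBcomm : ∀ a ∈ B, ∀ b ∈ B, Commute a b := fun a ha b hb =>
      congrArg Subtype.val (hBc.is_comm.comm (⟨a, ha⟩ : B) ⟨b, hb⟩)
    let W : Subgroup P :=
      { carrier := {b | b ∈ B ∧ b ^ 2 = 1}
        one_mem' := ⟨one_mem _, one_pow 2⟩
        mul_mem' := fun {a b} ha hb => ⟨mul_mem ha.1 hb.1, by
          rw [(hBcomm a ha.1 b hb.1).mul_pow, ha.2, hb.2, one_mul]⟩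
        inv_mem' := fun {a} ha => ⟨inv_mem ha.1, by rw [inv_pow, ha.2, inv_one]⟩ }
    haveI hWn : W.Normal := ⟨fun w hw g => ⟨hBn.conj_mem w hw.1 g, by
      rw [conj_pow, hw.2]; group⟩⟩
    have hWe : IsElementaryAbelian 2 W :=
      ⟨⟨⟨fun a b => Subtype.ext (hBcomm a a.2.1 b b.2.1).eq⟩⟩, fun a ha => ha.2⟩
    obtain ⟨x, y, q, hq, hxB, hyB, hxo, hyo, hyx⟩ :
        ∃ (x y : P) (q : ℕ), q.Prime ∧ x ∈ B ∧ y ∈ B ∧ orderOf x = q ∧ orderOf y = q ∧
          y ∉ Subgroup.zpowers x := by
      obtain ⟨q, x, y, h1, h2, h3, h4, h5, h6⟩ := CfsgLib.CoprimeAction.exists_two_generators hBnc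
      exact ⟨x, y, q, h1, h2, h3, h4, h5, h6⟩
    obtain rfl : q = 2 := by
      obtain ⟨k, hk⟩ := hP x
      have h1 := orderOf_dvd_of_pow_eq_one hk
      rw [hxo] at h1
      exact (Nat.prime_dvd_prime_iff_eq hq Nat.prime_two).1 (hq.dvd_of_dvd_pow h1)
    obtain ⟨m, hm⟩ := IsPGroup.iff_card.mp (hP.to_subgroup W)
    have hxW : x ∈ W := ⟨hxB, hxo ▸ pow_orderOf_eq_one x⟩
    have hyW : y ∈ W := ⟨hyB, hyo ▸ pow_orderOf_eq_one y⟩
    have hm2 : 2 ≤ m := by
      by_contra hlt
      have hle : Nat.card W ≤ Nat.card (Subgroup.zpowers x) := by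
        rw [hm, Nat.card_zpowers, hxo]
        exact (Nat.pow_le_pow_right two_pos (by omega : m ≤ 1)).trans_eq (pow_one 2)
      exact hyx ((Subgroup.eq_of_le_of_card_ge (Subgroup.zpowers_le.2 hxW) hle).ge hyW)
    obtain ⟨U, hUn, hUW, hU⟩ := CfsgLib.PGroups.exists_normal_card_le hP hm hm2
    exact ⟨U, hUn, elemAb_of_le hWe hUW, by simpa using hU⟩

/-- Involutions of a small centralizer. -/
theorem eq_of_three_involutions {x z : G} (hx : orderOf x = 2) (hz : orderOf z = 2) (hne : z ≠ x)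
    (hxz : Commute x z)
    (h3 : Nat.card {u : ↥(Subgroup.centralizer ({x} : Set G)) // orderOf u = 2} ≤ 3) {u : G}
    (hu : orderOf u = 2) (hux : Commute u x) : u = x ∨ u = z ∨ u = x * z := by
  classical
  by_contra hcon
  push Not at hcon
  have hxz2 := CfsgLib.Involutions.orderOf_mul_eq_two hx hz hxz (Ne.symm hne)
  let f : Fin 4 → {u : ↥(Subgroup.centralizer ({x} : Set G)) // orderOf u = 2} :=
    ![⟨⟨x, CfsgLib.Involutions.mem_centralizer_singleton.2 rfl⟩, by rw [← Subgroup.orderOf_coe]; exact hx⟩,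
      ⟨⟨z, CfsgLib.Involutions.mem_centralizer_singleton.2 hxz.symm.eq⟩, by rw [← Subgroup.orderOf_coe]; exact hz⟩,
      ⟨⟨x * z, CfsgLib.Involutions.mem_centralizer_singleton.2 ((Commute.refl x).mul_left hxz.symm).eq⟩,
        by rw [← Subgroup.orderOf_coe]; exact hxz2⟩,
      ⟨⟨u, CfsgLib.Involutions.mem_centralizer_singleton.2 hux.eq⟩, by rw [← Subgroup.orderOf_coe]; exact hu⟩]
  have hz1 := CfsgLib.Involutions.ne_one hz
  have hx1 := CfsgLib.Involutions.ne_one hx
  have hf : Function.Injective f := by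
    intro i j hij
    have h := congrArg (fun w => ((w.1 : ↥(Subgroup.centralizer ({x} : Set G))) : G)) hij
    fin_cases i <;> fin_cases j <;> first
      | rfl
      | (simp only [f] at h
         simp at h
         first
           | exact absurd h hne
           | exact absurd h.symm hne
           | exact absurd h hz1
           | exact absurd h hx1
           | exact absurd h hcon.1
           | exact absurd h.symm hcon.1
           | exact absurd h hcon.2.1
           | exact absurd h.symm hcon.2.1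
           | exact absurd h hcon.2.2
           | exact absurd h.symm hcon.2.2)
  have := Nat.card_le_card_of_injective f hf
  simp at this
  omega

/-- The centralizer of such an involution contains a Sylow 2-subgroup. -/
theorem exists_sylow_le_centralizer (hZ : ZStarTheorem.{u}) [IsSimpleGroup G]
    (hna : ¬ IsMulCommutative G) {x : G} (hx : orderOf x = 2)
    (h3 : Nat.card {u : ↥(Subgroup.centralizer ({x} : Set G)) // orderOf u = 2} ≤ 3) :
    ∃ S : Sylow 2 G, (S : Subgroup G) ≤ Subgroup.centralizer ({x} : Set G) := by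
  haveI : Fact (Nat.Prime 2) := ⟨Nat.prime_two⟩
  set C := Subgroup.centralizer ({x} : Set G) with hC
  have hxC : x ∈ C := CfsgLib.Involutions.mem_centralizer_singleton.2 rfl
  obtain ⟨T, hxT, hTC, hTp, hTi⟩ := exists_sylow_ge
    (CfsgLib.Involutions.isPGroup_zpowers_of_involution hx) (Subgroup.zpowers_le.2 hxC)
  have hxT' : x ∈ T := hxT (Subgroup.mem_zpowers x)
  obtain ⟨P, hTP⟩ := hTp.exists_le_sylow
  by_contra hcon
  push Not at hcon
  have hxP : x ∈ (P : Subgroup G) := hTP hxT'
  have hPC : ∀ Q : Subgroup G, Q ≤ C → IsPGroup 2 Q → Nat.card Q ≤ Nat.card T := by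
    intro Q hQC hQ
    obtain ⟨h, -, hle⟩ := exists_cj_le hQ hQC hTp hTC hTi
    rw [← card_cj h Q]
    exact Subgroup.card_le_of_le hle
  have hTeq : (P : Subgroup G) ⊓ C = T := le_antisymm
    (le_of_eq (Subgroup.eq_of_le_of_card_ge (le_inf hTP hTC)
      (hPC _ inf_le_right P.2.to_inf_left)).symm) (le_inf hTP hTC)
  have hTlt : Nat.card T < Nat.card (P : Subgroup G) :=
    Set.Finite.card_lt_card (Set.toFinite _) (lt_of_le_of_ne hTP fun h => hcon P (h.ge.trans hTC))
  have hnc : ∀ m : G, m ∈ (P : Subgroup G) → (∀ q ∈ (P : Subgroup G), q * m = m * q) →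
      ∀ g : G, g * x * g⁻¹ ≠ m := by
    intro m _ hm g hgx
    refine absurd (hPC (cj g⁻¹ (P : Subgroup G)) ?_ (isPGroup_cj P.2 _)) (by rw [card_cj]; omega)
    rintro _ ⟨q, hq, rfl⟩
    refine CfsgLib.Involutions.mem_centralizer_singleton.2 ?_
    show g⁻¹ * q * g⁻¹⁻¹ * x = x * (g⁻¹ * q * g⁻¹⁻¹)
    have hxg : x = g⁻¹ * m * g := by rw [← hgx]; group
    rw [hxg, show g⁻¹ * q * g⁻¹⁻¹ * (g⁻¹ * m * g) = g⁻¹ * (q * m) * g by group, hm q hq]
    group
  rcases exists_cyclic_or_normal_four P.2 with hcyc | ⟨a, ha⟩ | ⟨U, hUn, hUe, hUc⟩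
  · obtain ⟨a, ha⟩ := hcyc.exists_generator
    refine hnc x hxP (fun q hq => ?_) 1 (by group)
    obtain ⟨i, hi⟩ := ha ⟨q, hq⟩
    obtain ⟨j, hj⟩ := ha ⟨x, hxP⟩
    have := congrArg Subtype.val (((Commute.refl a).zpow_zpow i j).eq)
    simp only [hi, hj] at this
    exact this
  · exact false_of_cyclic_index_two hna P hx hnc a ha
  haveI := hUn
  have hU1 : U ≠ ⊥ := fun h => by rw [h, Subgroup.card_bot] at hUc; omega
  obtain ⟨z0, hz0U, hz01, hz0c⟩ := CfsgLib.TwoGroups.exists_mem_center_of_normal P.2 hU1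
  obtain ⟨z, hzdef⟩ : ∃ z : G, z = (z0 : G) := ⟨_, rfl⟩
  have hzP : z ∈ (P : Subgroup G) := hzdef ▸ z0.2
  have hz : orderOf z = 2 := by
    rw [hzdef, Subgroup.orderOf_coe]
    exact elemAb_orderOf hUe hz0U hz01
  have hzc : ∀ q ∈ (P : Subgroup G), q * z = z * q := fun q hq =>
    hzdef ▸ congrArg Subtype.val (Subgroup.mem_center_iff.1 hz0c ⟨q, hq⟩)
  have hxz : Commute x z := hzc x hxP
  have hne : z ≠ x := fun h => hnc x hxP (fun q hq => h ▸ hzc q hq) 1 (by group)
  have hzx : ∀ g : G, g * z * g⁻¹ ≠ x := fun g h => hnc z hzP hzc g⁻¹ (by rw [← h]; group)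
  have hinv : ∀ {v : G}, orderOf v = 2 → Commute v x → v = x ∨ v = z ∨ v = x * z := fun hv hvx =>
    eq_of_three_involutions hx hz hne hxz h3 hv hvx
  have hUel : ∀ u ∈ U, u ≠ 1 → orderOf (u : G) = 2 := fun u hu hu1 => by
    rw [Subgroup.orderOf_coe]; exact elemAb_orderOf hUe hu hu1
  set M := Subgroup.centralizer (U : Set ↥(P : Subgroup G)) with hM
  -- a third element of `U`
  obtain ⟨u1, hu1, hu11, hu1z⟩ : ∃ u1 ∈ U, u1 ≠ 1 ∧ u1 ≠ z0 := by
    by_contra h
    push Not at h
    have hle : U ≤ Subgroup.zpowers z0 := fun u hu => by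
      by_cases hu1 : u = 1
      · rw [hu1]; exact one_mem _
      · rw [h u hu hu1]; exact Subgroup.mem_zpowers z0
    have := Subgroup.card_le_of_le hle
    rw [Nat.card_zpowers, ← Subgroup.orderOf_coe, ← hzdef, hz, hUc] at this
    omega
  have hUset : ∀ u ∈ U, u = 1 ∨ u = z0 ∨ u = u1 ∨ u = z0 * u1 := by
    intro u hu
    by_contra hcon'
    push Not at hcon'
    classical
    let f : Fin 5 → ↥U :=
      ![1, ⟨z0, hz0U⟩, ⟨u1, hu1⟩, ⟨z0 * u1, mul_mem hz0U hu1⟩, ⟨u, hu⟩]
    have hmul : z0 * u1 ≠ 1 := fun h => hu1z (by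
      rw [← inv_eq_of_mul_eq_one_right h, inv_eq_of_mul_eq_one_left
        (by simpa [pow_two] using hUe.2 z0 hz0U)])
    have hf : Function.Injective f := by
      intro i j hij
      have h := congrArg Subtype.val hij
      fin_cases i <;> fin_cases j <;> first
        | rfl
        | (simp only [f] at h
           simp at h
           first
             | exact absurd h hz01
             | exact absurd h.symm hz01
             | exact absurd h hu11
             | exact absurd h.symm hu11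
             | exact absurd h hu1z
             | exact absurd h.symm hu1z
             | exact absurd h hmul
             | exact absurd h.symm hmul
             | exact absurd h hcon'.1
             | exact absurd h.symm hcon'.1
             | exact absurd h hcon'.2.1
             | exact absurd h.symm hcon'.2.1
             | exact absurd h hcon'.2.2.1
             | exact absurd h.symm hcon'.2.2.1
             | exact absurd h hcon'.2.2.2
             | exact absurd h.symm hcon'.2.2.2)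
    have := Nat.card_le_card_of_injective f hf
    rw [hUc] at this
    simp at this
  have hMc : ∀ q : ↥(P : Subgroup G), q ∈ M ↔ q * u1 = u1 * q := by
    intro q
    refine ⟨fun h => (Subgroup.mem_centralizer_iff.1 h u1 hu1).symm, fun h => ?_⟩
    refine Subgroup.mem_centralizer_iff.2 fun u hu => ?_
    have hzq : Commute q z0 := Subgroup.mem_center_iff.1 hz0c q
    rcases hUset u hu with rfl | rfl | rfl | rfl
    · rw [one_mul, mul_one]
    · exact hzq.symm.eq
    · exact h.symm
    · exact (hzq.mul_right h).symm.eq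
  have hMi : ∀ q ∉ M, q * u1 * q⁻¹ = z0 * u1 := by
    intro q hq
    rcases hUset _ (hUn.conj_mem u1 hu1 q) with h | h | h | h
    · exact absurd (conj_eq_one_iff.1 h) hu11
    · refine absurd (mul_left_cancel (mul_right_cancel (h.trans (?_ : z0 = q * z0 * q⁻¹)))) hu1z
      rw [Subgroup.mem_center_iff.1 hz0c q, mul_inv_cancel_right]
    · exact absurd ((hMc q).2 (mul_inv_eq_iff_eq_mul.1 h)) hq
    · exact h
  have hMidx : ∀ q₀ ∉ M, M.index = 2 := by
    intro q₀ hq₀
    refine Subgroup.index_eq_two_iff'.2 ⟨q₀⁻¹, fun b => ?_⟩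
    by_cases hb : b ∈ M
    · refine Or.inr ⟨hb, fun h => hq₀ ?_⟩
      have := M.mul_mem h (M.inv_mem hb)
      rw [mul_inv_cancel_right] at this
      exact inv_mem_iff.1 this
    · refine Or.inl ⟨(hMc _).2 ?_, hb⟩
      refine mul_inv_eq_iff_eq_mul.1 ?_
      calc q₀⁻¹ * b * u1 * (q₀⁻¹ * b)⁻¹ = q₀⁻¹ * (b * u1 * b⁻¹) * q₀ := by group
        _ = q₀⁻¹ * (q₀ * u1 * q₀⁻¹) * q₀ := by rw [hMi b hb, hMi q₀ hq₀]
        _ = u1 := by group
  -- `T` has index two
  have hT2 : Nat.card (P : Subgroup G) = 2 * Nat.card T := by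
    have hcard : ∀ M' : Subgroup ↥(P : Subgroup G), M'.index = 2 →
        Nat.card M' ≤ Nat.card T → Nat.card (P : Subgroup G) = 2 * Nat.card T := by
      intro M' hM' hle
      obtain ⟨a, ha⟩ := IsPGroup.iff_card.1 hTp
      obtain ⟨b, hb⟩ := IsPGroup.iff_card.1 P.2
      have h := Subgroup.card_mul_index M'
      rw [hM'] at h
      have : Nat.card T * 1 < Nat.card T * 2 → Nat.card (P : Subgroup G) ≤ Nat.card T * 2 :=
        fun _ => by omega
      rw [ha, hb] at hTlt
      have hab := (Nat.pow_lt_pow_iff_right (by norm_num)).1 hTlt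
      have h4 : 2 ^ b ≤ 2 ^ (a + 1) := by rw [pow_succ, ← ha, ← hb]; omega
      have := (Nat.pow_le_pow_iff_right (by norm_num)).1 h4
      rw [ha, hb, ← pow_succ', show b = a + 1 by omega]
    by_cases hxM : (⟨x, hxP⟩ : ↥(P : Subgroup G)) ∈ M
    · -- `U = {1, z, x, xz}`: `T` is the centralizer of `U`
      have hu1x : (u1 : G) = x ∨ (u1 : G) = x * z := by
        have hcx : Commute (u1 : G) x := (congrArg Subtype.val ((hMc _).1 hxM)).symm
        rcases hinv (hUel u1 hu1 hu11) hcx with h | h | h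
        · exact Or.inl h
        · exact absurd (Subtype.ext (h.trans hzdef)) hu1z
        · exact Or.inr h
      have hMT : M.map (P : Subgroup G).subtype ≤ T := by
        rintro _ ⟨q, hq, rfl⟩
        rw [← hTeq]
        refine ⟨q.2, CfsgLib.Involutions.mem_centralizer_singleton.2 ?_⟩
        show (q : G) * x = x * q
        have h : Commute (q : G) u1 := congrArg Subtype.val ((hMc q).1 hq)
        rcases hu1x with h' | h'
        · rw [← h']; exact h.eq
        · have hq' : Commute (q : G) z := hzc q q.2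
          have hzz := CfsgLib.Involutions.mul_self_eq_one hz
          rw [show x = (u1 : G) * z by rw [h', mul_assoc, hzz, mul_one]]
          exact (h.mul_right hq').eq
      obtain ⟨q₀, hq₀⟩ : ∃ q₀, q₀ ∉ M := by
        by_contra h
        push Not at h
        refine absurd (Subgroup.card_le_of_le hMT) ?_
        rw [Subgroup.card_map_of_injective (Subgroup.subtype_injective _),
          (Subgroup.eq_top_iff' M).2 h, Subgroup.card_top]
        omega
      refine hcard M (hMidx q₀ hq₀) ?_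
      rw [← Subgroup.card_map_of_injective (P : Subgroup G).subtype_injective]
      exact Subgroup.card_le_of_le hMT
    · obtain ⟨g, m, hm, hgm⟩ := exists_conj_mem_maximal hna P hx M (hMidx _ hxM)
      -- the conjugate of `x` in `M` lies in `U`
      have hback : ∀ u ∈ U, Commute (g⁻¹ * (u : G) * g) x := by
        intro u hu
        have h1 : Commute (u : G) m :=
          congrArg Subtype.val (Subgroup.mem_centralizer_iff.1 hm u hu)
        rw [show x = g⁻¹ * (m : G) * g by rw [← hgm]; group]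
        show g⁻¹ * u * g * (g⁻¹ * m * g) = g⁻¹ * m * g * (g⁻¹ * u * g)
        rw [show g⁻¹ * (u : G) * g * (g⁻¹ * m * g) = g⁻¹ * (u * m) * g by group, h1.eq]
        group
      have hmU : m ∈ U := by
        by_contra hmU
        have hmap : ∀ u ∈ U, u ≠ 1 →
            g⁻¹ * (u : G) * g = z ∨ g⁻¹ * (u : G) * g = x * z := by
          intro u hu hu1
          have ho : orderOf (g⁻¹ * (u : G) * g) = 2 := by
            have := CfsgLib.Involutions.orderOf_conj g⁻¹ (u : G)
            rw [inv_inv] at this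
            rw [this]
            exact hUel u hu hu1
          rcases hinv ho (hback u hu) with h | h
          · refine absurd (show m = u from Subtype.ext ?_) fun e => hmU (e ▸ hu)
            rw [← hgm, ← h]; group
          · exact h
        have hinj : ∀ a b : ↥(P : Subgroup G), g⁻¹ * (a : G) * g = g⁻¹ * (b : G) * g → a = b :=
          fun a b h => Subtype.ext (mul_left_cancel (mul_right_cancel h))
        have hzu : z0 * u1 ≠ 1 := fun h => hu1z (by
          rw [← inv_eq_of_mul_eq_one_right h, inv_eq_of_mul_eq_one_left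
            (by simpa [pow_two] using hUe.2 z0 hz0U)])
        have n1 : z0 * u1 ≠ z0 := by simpa using hu11
        have n2 : z0 * u1 ≠ u1 := by simpa using hz01
        rcases hmap z0 hz0U hz01 with h1 | h1 <;> rcases hmap u1 hu1 hu11 with h2 | h2 <;>
          rcases hmap _ (mul_mem hz0U hu1) hzu with h3 | h3
        all_goals first
          | exact hu1z (hinj _ _ (h2.trans h1.symm))
          | exact n1 (hinj _ _ (h3.trans h1.symm))
          | exact n2 (hinj _ _ (h3.trans h2.symm))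
      refine hcard M (hMidx _ hxM) ?_
      refine le_trans ?_ (hPC (cj g⁻¹ (M.map (P : Subgroup G).subtype)) ?_
        (isPGroup_cj (P.2.to_le (Subgroup.map_subtype_le M)) _))
      · rw [card_cj, Subgroup.card_map_of_injective (Subgroup.subtype_injective _)]
      · rintro _ ⟨_, ⟨q, hq, rfl⟩, rfl⟩
        refine CfsgLib.Involutions.mem_centralizer_singleton.2 ?_
        have h1 : Commute (q : G) m :=
          (congrArg Subtype.val (Subgroup.mem_centralizer_iff.1 hq m hmU)).symm
        show g⁻¹ * q * g⁻¹⁻¹ * x = x * (g⁻¹ * q * g⁻¹⁻¹)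
        rw [show x = g⁻¹ * (m : G) * g by rw [← hgm]; group,
          show g⁻¹ * (q : G) * g⁻¹⁻¹ * (g⁻¹ * m * g) = g⁻¹ * (q * m) * g by group, h1.eq]
        group
  -- `T` as a normal subgroup of index two of `P`
  have hTsub : (T.subgroupOf (P : Subgroup G)).index = 2 := by
    have h := Subgroup.card_mul_index (T.subgroupOf (P : Subgroup G))
    rw [Nat.card_congr (Subgroup.subgroupOfEquivOfLe hTP).toEquiv, hT2, mul_comm 2] at h
    exact Nat.eq_of_mul_eq_mul_left Nat.card_pos h
  haveI := Subgroup.normal_of_index_eq_two hTsub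
  have hsq : ∀ q ∈ (P : Subgroup G), q ^ 2 ∈ T := fun q hq => by
    have := Subgroup.pow_index_mem (T.subgroupOf (P : Subgroup G)) ⟨q, hq⟩
    rw [hTsub] at this
    exact this
  -- the other conjugate `x * z` of `x`
  obtain ⟨q₀, hq₀P, hq₀T⟩ := SetLike.exists_of_lt
    (lt_of_le_of_ne hTP fun h => hTlt.ne (by rw [h]))
  have hxzc : ∃ g : G, g * x * g⁻¹ = x * z := by
    refine ⟨q₀, ?_⟩
    have hmem : q₀ * x * q₀⁻¹ ∈ T :=
      (inferInstance : (T.subgroupOf (P : Subgroup G)).Normal).conj_mem ⟨x, hxP⟩ hxT' ⟨q₀, hq₀P⟩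
    have ho : orderOf (q₀ * x * q₀⁻¹) = 2 := by rw [CfsgLib.Involutions.orderOf_conj]; exact hx
    rcases hinv ho (CfsgLib.Involutions.mem_centralizer_singleton.1 (hTC hmem)) with h | h | h
    · refine absurd ?_ hq₀T
      rw [← hTeq]
      exact ⟨hq₀P, CfsgLib.Involutions.mem_centralizer_singleton.2 (mul_inv_eq_iff_eq_mul.1 h)⟩
    · exact absurd h (hnc z hzP hzc q₀)
    · exact h
  obtain ⟨g₁, hg₁⟩ := hxzc
  obtain ⟨g, hwP, hwz⟩ := exists_conj_ne_of_simple hZ hna P hz hzP
  set w := g * z * g⁻¹ with hw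
  have hw2 : orderOf w = 2 := by rw [hw, CfsgLib.Involutions.orderOf_conj, hz]
  have hnT : ∀ g' : G, g' * z * g'⁻¹ ∈ (P : Subgroup G) → g' * z * g'⁻¹ ≠ z →
      g' * z * g'⁻¹ ∉ T := by
    intro g' _ hne' hmem
    have ho : orderOf (g' * z * g'⁻¹) = 2 := by rw [CfsgLib.Involutions.orderOf_conj, hz]
    rcases hinv ho (CfsgLib.Involutions.mem_centralizer_singleton.1 (hTC hmem)) with h | h | h
    · exact hzx g' h
    · exact hne' h
    · refine hzx (g₁⁻¹ * g') ?_
      calc g₁⁻¹ * g' * z * (g₁⁻¹ * g')⁻¹ = g₁⁻¹ * (g' * z * g'⁻¹) * g₁ := by group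
        _ = x := by rw [h, ← hg₁]; group
  -- move `w` to `z`
  set Cz := Subgroup.centralizer ({z} : Set G)
  have hPz : (P : Subgroup G) ≤ Cz := fun q hq => CfsgLib.Involutions.mem_centralizer_singleton.2 (hzc q hq)
  set W := (P : Subgroup G) ⊓ Subgroup.centralizer ({w} : Set G) with hWdef
  have hWz : cj g⁻¹ W ≤ Cz := by
    rintro _ ⟨q, hq, rfl⟩
    refine CfsgLib.Involutions.mem_centralizer_singleton.2 ?_
    show g⁻¹ * q * g⁻¹⁻¹ * z = z * (g⁻¹ * q * g⁻¹⁻¹)
    rw [show z = g⁻¹ * w * g by rw [hw]; group,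
      show g⁻¹ * q * g⁻¹⁻¹ * (g⁻¹ * w * g) = g⁻¹ * (q * w) * g by group,
      CfsgLib.Involutions.mem_centralizer_singleton.1 hq.2]
    group
  obtain ⟨c, hc, hcW⟩ := exists_cj_le (isPGroup_cj P.2.to_inf_left g⁻¹) hWz P.2 hPz
    (fun h => P.not_dvd_index (h.trans (Subgroup.relIndex_dvd_index_of_le hPz)))
  set h := c * g⁻¹ with hh
  have hWP : ∀ q ∈ W, h * q * h⁻¹ ∈ (P : Subgroup G) := fun q hq => by
    have : h * q * h⁻¹ = c * (g⁻¹ * q * g⁻¹⁻¹) * c⁻¹ := by rw [hh]; group
    rw [this]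
    exact hcW (conj_mem_cj (conj_mem_cj hq))
  have hhw : h * w * h⁻¹ = z := by
    rw [hh, show c * g⁻¹ * w * (c * g⁻¹)⁻¹ = c * z * c⁻¹ by rw [hw]; group,
      CfsgLib.Involutions.mem_centralizer_singleton.1 hc, mul_inv_cancel_right]
  have hzW : z ∈ W := ⟨hzP, CfsgLib.Involutions.mem_centralizer_singleton.2 (hzc w hwP).symm⟩
  have huz : h * z * h⁻¹ ≠ z := fun e => hwz (mul_left_cancel (mul_right_cancel (hhw.trans e.symm)))
  have hu := hnT h (hWP z hzW) huz
  have hroot : ∀ r ∈ W, r ^ 2 ≠ z := fun r hr hr2 => hu (by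
    rw [← hr2, ← conj_pow]
    exact hsq _ (hWP r hr))
  -- hence `C_T(w) = ⟨z⟩`
  have hwT : w ∉ T := hnT g hwP hwz
  have hR0 : ∀ r ∈ T ⊓ W, r = 1 ∨ r = z := by
    intro r hr
    have hinv0 : ∀ v ∈ T ⊓ W, orderOf v = 2 → v = z := by
      intro v hv hv2
      have hvw : Commute v w := CfsgLib.Involutions.mem_centralizer_singleton.1 hv.2.2
      rcases hinv hv2 (CfsgLib.Involutions.mem_centralizer_singleton.1 (hTC hv.1)) with rfl | rfl | rfl
      · exact absurd (hTeq ▸ ⟨hwP, CfsgLib.Involutions.mem_centralizer_singleton.2 hvw.symm.eq⟩ : w ∈ T) hwT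
      · rfl
      · refine absurd (hTeq ▸ ⟨hwP, CfsgLib.Involutions.mem_centralizer_singleton.2 ?_⟩ : w ∈ T) hwT
        have hzz := CfsgLib.Involutions.mul_self_eq_one hz
        have h4 : Commute (x * z * z) w := hvw.mul_left (hzc w hwP).symm
        rw [mul_assoc, hzz, mul_one] at h4
        exact h4.symm.eq
    by_cases hr1 : r = 1
    · exact Or.inl hr1
    refine Or.inr ?_
    obtain ⟨k, hk⟩ := hTp ⟨r, hr.1⟩
    obtain ⟨j, -, hj⟩ := (Nat.dvd_prime_pow Nat.prime_two).1
      (orderOf_dvd_of_pow_eq_one (congrArg Subtype.val hk : r ^ 2 ^ k = 1))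
    rcases j with _ | _ | j
    · rw [pow_zero] at hj; exact absurd (orderOf_eq_one_iff.1 hj) hr1
    · exact hinv0 r hr (by rw [hj]; norm_num)
    · exfalso
      have ho : orderOf ((r ^ 2 ^ j) ^ 2) = 2 := by
        rw [← pow_mul, orderOf_pow_of_dvd (by positivity) (by rw [hj, ← pow_succ]; exact pow_dvd_pow 2 (by omega)), hj, ← pow_succ, Nat.pow_div (by omega) two_pos,
          show j + 1 + 1 - (j + 1) = 1 by omega, pow_one]
      exact hroot _ ((T ⊓ W).pow_mem hr (2 ^ j)).2
        (hinv0 _ ((T ⊓ W).pow_mem ((T ⊓ W).pow_mem hr (2 ^ j)) 2) ho)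
  -- so `⟨w, z⟩` is self-centralizing of order four
  set w' : ↥(P : Subgroup G) := ⟨w, hwP⟩
  set A := Subgroup.centralizer ({w'} : Set ↥(P : Subgroup G)) with hA
  have hw'A : w' ∈ A := CfsgLib.Involutions.mem_centralizer_singleton.2 rfl
  have hzA : z0 ∈ A := CfsgLib.Involutions.mem_centralizer_singleton.2 (Subgroup.mem_center_iff.1 hz0c w').symm
  have hdec : ∀ q ∈ A, q = 1 ∨ q = z0 ∨ q = w' ∨ q = w' * z0 := by
    intro q hq
    have hqW : (q : G) ∈ W :=
      ⟨q.2, CfsgLib.Involutions.mem_centralizer_singleton.2 (congrArg Subtype.val (CfsgLib.Involutions.mem_centralizer_singleton.1 hq))⟩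
    by_cases hqT : (q : G) ∈ T
    · rcases hR0 _ ⟨hqT, hqW⟩ with h | h
      · exact Or.inl (Subtype.ext h)
      · exact Or.inr (Or.inl (Subtype.ext (h.trans hzdef)))
    · have hwq : w'⁻¹ * q ∈ T.subgroupOf (P : Subgroup G) := by
        have := (Subgroup.mul_mem_iff_of_index_two hTsub (a := w'⁻¹) (b := q)).2
          (iff_of_false (fun h => hwT (Subgroup.mem_subgroupOf.1 (inv_mem_iff.1 h))) hqT)
        exact this
      rcases hR0 _ ⟨hwq, W.mul_mem (W.inv_mem (show w ∈ W from
        ⟨hwP, CfsgLib.Involutions.mem_centralizer_singleton.2 rfl⟩)) hqW⟩ with h | h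
      · exact Or.inr (Or.inr (Or.inl (inv_mul_eq_one.1 (Subtype.ext h : w'⁻¹ * q = 1)).symm))
      · exact Or.inr (Or.inr (Or.inr (inv_mul_eq_iff_eq_mul.1 (Subtype.ext (h.trans hzdef) : w'⁻¹ * q = z0))))
  have hcardA : Nat.card A = 2 ^ 2 := by
    classical
    have hle : Nat.card A ≤ 4 := by
      have hsur : Function.Surjective (![(1 : ↥A), ⟨z0, hzA⟩, ⟨w', hw'A⟩,
          ⟨w' * z0, A.mul_mem hw'A hzA⟩]) := by
        rintro ⟨q, hq⟩
        rcases hdec q hq with rfl | rfl | rfl | rfl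
        exacts [⟨0, rfl⟩, ⟨1, rfl⟩, ⟨2, rfl⟩, ⟨3, rfl⟩]
      simpa using Nat.card_le_card_of_surjective _ hsur
    obtain ⟨b, hb⟩ := IsPGroup.iff_card.1 (P.2.to_subgroup A)
    have hlt : Subgroup.zpowers z0 < A := lt_of_le_of_ne (Subgroup.zpowers_le.2 hzA) fun e => by
      have : w' ∈ Subgroup.zpowers z0 := e ▸ hw'A
      obtain ⟨i, hi⟩ := Subgroup.mem_zpowers_iff.1 this
      refine hwT ?_
      have hzT : z ∈ T := hTeq ▸ ⟨hzP, CfsgLib.Involutions.mem_centralizer_singleton.2 hxz.symm.eq⟩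
      have := T.zpow_mem hzT i
      rwa [show z ^ i = w by rw [hzdef, ← Subgroup.coe_zpow, hi]] at this
    have hlt' := Set.Finite.card_lt_card (Set.toFinite _) hlt
    change Nat.card (Subgroup.zpowers z0) < Nat.card A at hlt'
    rw [Nat.card_zpowers, ← Subgroup.orderOf_coe, ← hzdef, hz, hb] at hlt'
    rw [hb] at hle ⊢
    have h2 : b ≤ 2 := (Nat.pow_le_pow_iff_right (by norm_num)).1 hle
    have h1 : 1 < b := (Nat.pow_lt_pow_iff_right one_lt_two).1 (show 2 ^ 1 < 2 ^ b by simpa using hlt')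
    rw [show b = 2 by omega]
  have hself : Subgroup.centralizer (A : Set ↥(P : Subgroup G)) = A := by
    refine le_antisymm (Subgroup.centralizer_le (by simpa using hw'A)) ?_
    intro q hq
    refine Subgroup.mem_centralizer_iff.2 fun r hr => ?_
    have hzq : ∀ y, Commute y z0 := fun y => Subgroup.mem_center_iff.1 hz0c y
    have hqw : Commute q w' := CfsgLib.Involutions.mem_centralizer_singleton.1 hq
    rcases hdec r hr with rfl | rfl | rfl | rfl
    · rw [one_mul, mul_one]
    · exact (hzq q).symm.eq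
    · exact hqw.symm.eq
    · exact (hqw.mul_right (hzq q)).symm.eq
  obtain ⟨n, hn⟩ := IsPGroup.iff_card.1 P.2
  have hn3 : 3 ≤ n := by
    have h1 : Nat.card A ≤ Nat.card (P : Subgroup G) := Subgroup.card_le_card_group A
    rw [hcardA, hn] at h1
    have h2 : 2 ≤ n := (Nat.pow_le_pow_iff_right (by norm_num)).1 h1
    by_contra h
    have hXA : Nat.card (P : Subgroup G) ≤ Nat.card A := by rw [hcardA, hn, show n = 2 by omega]
    have htop : A = ⊤ := (Subgroup.card_eq_iff_eq_top A).1
      (le_antisymm (Subgroup.card_le_card_group A) hXA)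
    refine hwT ?_
    rw [← hTeq]
    refine ⟨hwP, CfsgLib.Involutions.mem_centralizer_singleton.2 ?_⟩
    have hx' : (⟨x, hxP⟩ : ↥(P : Subgroup G)) ∈ A := htop ▸ Subgroup.mem_top _
    exact (congrArg Subtype.val (CfsgLib.Involutions.mem_centralizer_singleton.1 hx')).symm
  have hclass := CfsgLib.PGroups.class_of_self_centralizing_sq n hn A hcardA hself
  have hcc := CfsgLib.PGroups.card_commutator_of_maximal_class hn3 hn hclass
  obtain ⟨k, rfl⟩ : ∃ k, n = k + 3 := ⟨n - 3, by omega⟩
  obtain ⟨a, -, ha⟩ := CfsgLib.PGroups.exists_cyclic_index_two k hn hcc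
  exact false_of_cyclic_index_two hna P hx hnc a ha

/-- All involutions are conjugate when such a centralizer contains a Sylow 2-subgroup. -/
theorem isConj_of_three_involutions (hZ : ZStarTheorem.{u}) [IsSimpleGroup G]
    (hna : ¬ IsMulCommutative G) {x : G} (hx : orderOf x = 2)
    (h3 : Nat.card {u : ↥(Subgroup.centralizer ({x} : Set G)) // orderOf u = 2} ≤ 3)
    (S : Sylow 2 G) (hS : (S : Subgroup G) ≤ Subgroup.centralizer ({x} : Set G)) :
    ∀ u v : G, orderOf u = 2 → orderOf v = 2 → IsConj u v := by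
  haveI : Fact (Nat.Prime 2) := ⟨Nat.prime_two⟩
  have hxS : x ∈ (S : Subgroup G) := by
    obtain ⟨h, hh, hle⟩ := exists_cj_le (CfsgLib.Involutions.isPGroup_zpowers_of_involution hx)
      (Subgroup.zpowers_le.2 (CfsgLib.Involutions.mem_centralizer_singleton.2 rfl)) S.2 hS
      (fun h => S.not_dvd_index (h.trans (Subgroup.relIndex_dvd_index_of_le hS)))
    have := hle (conj_mem_cj (Subgroup.mem_zpowers x))
    rwa [CfsgLib.Involutions.mem_centralizer_singleton.1 hh, mul_inv_cancel_right] at this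
  suffices key : ∀ v : G, orderOf v = 2 → v ∈ (S : Subgroup G) → IsConj x v by
    intro u v hu hv
    obtain ⟨a, ha⟩ := CfsgLib.Involutions.exists_conj_mem_of_involution S hu
    obtain ⟨b, hb⟩ := CfsgLib.Involutions.exists_conj_mem_of_involution S hv
    exact (isConj_iff.2 ⟨a, rfl⟩ : IsConj u _).trans
      ((key _ (by rw [CfsgLib.Involutions.orderOf_conj]; exact hu) ha).symm.trans
        ((key _ (by rw [CfsgLib.Involutions.orderOf_conj]; exact hv) hb).trans
          (isConj_iff.2 ⟨b, rfl⟩ : IsConj v _).symm))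
  intro v hv hvS
  by_contra hnc
  have hvx : v ≠ x := fun e => hnc (e ▸ IsConj.refl _)
  have hxv : Commute x v := (CfsgLib.Involutions.mem_centralizer_singleton.1 (hS hvS)).symm
  have hxv2 := CfsgLib.Involutions.orderOf_mul_eq_two hx hv hxv (Ne.symm hvx)
  have hxvS : x * v ∈ (S : Subgroup G) := mul_mem hxS hvS
  have hall : ∀ {y : G}, orderOf y = 2 → y ∈ (S : Subgroup G) → y = x ∨ y = v ∨ y = x * v :=
    fun hy hyS => eq_of_three_involutions hx hv hvx hxv h3 hy (CfsgLib.Involutions.mem_centralizer_singleton.1 (hS hyS))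
  have hmove : ∀ y : G, orderOf y = 2 → y ∈ (S : Subgroup G) →
      ∃ y', (y' = x ∨ y' = v ∨ y' = x * v) ∧ y' ≠ y ∧ IsConj y y' := by
    intro y hy hyS
    obtain ⟨g, hg, hne⟩ := exists_conj_ne_of_simple hZ hna S hy hyS
    exact ⟨_, hall (by rw [CfsgLib.Involutions.orderOf_conj]; exact hy) hg, hne,
      isConj_iff.2 ⟨g, rfl⟩⟩
  have hc1 : IsConj x (x * v) := by
    obtain ⟨y, hy, hne, hconj⟩ := hmove x hx hxS
    rcases hy with rfl | rfl | rfl
    · exact absurd rfl hne
    · exact absurd hconj hnc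
    · exact hconj
  have hc2 : IsConj v (x * v) := by
    obtain ⟨y, hy, hne, hconj⟩ := hmove v hv hvS
    rcases hy with rfl | rfl | rfl
    · exact absurd hconj.symm hnc
    · exact absurd rfl hne
    · exact hconj
  exact hnc (hc1.trans hc2.symm)

end CfsgLib.Balance
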